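import Cfsg.Agent.HigSims.Mult.Data
import Cfsg.Agent.StemCert.Stream
import Cfsg.Agent.LeechModel.Words

/-! Entries of generator 2 at level 0. -/

set_option autoImplicit false
set_option maxHeartbeats 0
set_option maxRecDepth 100000
set_option Elab.async false

namespace Cfsg.Agent.HigSims.Mult

open Cfsg Cfsg.Agent.Compute Cfsg.Agent.StemCert Cfsg.Agent.LeechModel

theorem ent0_2_0 : allFrom 0 100 (cert.entM 18 pvs 0 2) = true := by decide +kernel

end Cfsg.Agent.HigSims.Mult
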