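import Cfsg.Agent.HigSims.Mult.Check.Shape

/-! Packed rows of the multiplier certificate. -/

set_option autoImplicit false
set_option maxHeartbeats 0
set_option maxRecDepth 100000
set_option Elab.async false

namespace Cfsg.Agent.HigSims.Mult

open Cfsg Cfsg.Agent.Compute Cfsg.Agent.StemCert Cfsg.Agent.LeechModel

theorem rows_ok : cert.rowsP pvs cert.rows rowVals = true := by decide +kernel
theorem basisP_ok : allBelow cert.dim (cert.basisP rowVals) = true := by decide +kernel
theorem ordP_ok : cert.ordP rowVals = true := by decide +kernel

end Cfsg.Agent.HigSims.Mult
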