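import Cfsg.Agent.StemCert.Count
import Cfsg.Agent.StemCert.Stream
import Cfsg.Agent.LeechModel.Words
import Cfsg.Agent.HigSims.Model
import Cfsg.Agent.HigSims.Mult.Data

/-! Shape and row checks of the multiplier certificate. -/

set_option autoImplicit false
set_option maxHeartbeats 0
set_option maxRecDepth 100000
set_option Elab.async false

namespace Cfsg.Agent.HigSims.Mult

open Cfsg Cfsg.Agent.Compute Cfsg.Agent.StemCert Cfsg.Agent.LeechModel

theorem words_ok : wordsB 100 7 7 Model.codes words codes 7 = true := by decide +kernel
theorem wf_ok : wfB cert.D = true := by decide +kernel
theorem top_ok : cert.topOK 7 = true := by decide +kernel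
theorem rel_ok : allBelow cert.nRel cert.relOK = true := by decide +kernel
theorem pow_ok : allBelow 7 cert.powOK = true := by decide +kernel
theorem commData_ok : allBelow 7 cert.commOK = true := by decide +kernel
theorem small_ok : smallB cert.D = true := by decide +kernel
theorem hw_ok : hwB 18 cert.D = true := by decide +kernel
theorem pv_ok : allBelow 5 (cert.pvOK pvs) = true := by decide +kernel
theorem bound_ok : cert.boundP = true := by decide +kernel
theorem row_ok : allB cert.rowOK cert.rows = true := by decide +kernel
theorem below_ok : gensBelow 7 cert.D = true := by decide +kernel
theorem blt_ok : allB (fun b => Nat.blt b 100) base = true := by decide +kernel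
theorem distinct_ok : distinctB 7 codes cert.D base = true := by decide +kernel

end Cfsg.Agent.HigSims.Mult
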